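import Cfsg.Agent.Mrg.Omega.HOne.TvTail_m3
import Cfsg.Agent.Nodes.CardSup_m3
import Cfsg.Agent.Nodes.NormalForm
import Cfsg.Agent.Prune
set_option linter.all false
prune_inst 0x7f00000000000000000000000000000000000000000000000000000000000000000000000000000000000000000000000000000000000000000000000000000000000000000000000000000000000000003fffffffffffffffffffffffffffbeffbdffffffff
open scoped Cfsg.Agent.FastGrp

/-!
# The roots of type `F₄` (`0`, `1` short, `2`, `3` long) in coordinates (S3831, T4b; helper874)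
-/

set_option autoImplicit false
set_option Elab.async false

namespace Cfsg.Agent.H874.SNX

open CoxeterSystem Cfsg.Agent.ChevalleyStructure.CoxeterGeom Cfsg.Agent.Tits.Roots Cfsg.Agent.Tits.Core
  Cfsg.Agent.Tits.Exchange Cfsg.Agent.Nodes.Reps Cfsg.Agent.Nodes.BNOf Cfsg.Agent.Nodes.StabComb
  Cfsg.Agent.Nodes.Bruhat Cfsg.Agent.Nodes.OppDec Cfsg.Agent.ParSys.RootExc Cfsg.Agent.ParSys.RootCount

/-- Cartan matrix -/
def A4 : Fin 4 → Fin 4 → ℤ := ![![2, -1, 0, 0], ![-1, 2, -2, 0], ![0, -1, 2, -1], ![0, 0, -1, 2]]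

/-- positive roots -/
def LF : List (Fin 4 → ℤ) := [![1, 0, 0, 0], ![0, 1, 0, 0], ![0, 0, 1, 0], ![0, 0, 0, 1], ![1, 1, 0, 0],
  ![0, 1, 1, 0], ![0, 0, 1, 1], ![1, 1, 1, 0], ![0, 2, 1, 0], ![0, 1, 1, 1], ![1, 2, 1, 0], ![1, 1, 1, 1],
  ![0, 2, 1, 1], ![2, 2, 1, 0], ![1, 2, 1, 1], ![0, 2, 2, 1], ![2, 2, 1, 1], ![1, 2, 2, 1], ![2, 2, 2, 1],
  ![1, 3, 2, 1], ![2, 3, 2, 1], ![2, 4, 2, 1], ![2, 4, 3, 1], ![2, 4, 3, 2]]

/-- images under the simple reflections -/
def TF : List (List ℕ) := [[0, 4, 2, 3, 1, 7, 6, 5, 13, 11, 10, 9, 16, 8, 14, 18, 12, 17, 15, 20, 19, 21, 22, 23],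
  [4, 0, 8, 3, 0, 5, 12, 10, 2, 9, 7, 14, 6, 13, 11, 15, 16, 19, 21, 17, 20, 18, 22, 23],
  [0, 5, 0, 6, 7, 1, 3, 4, 8, 9, 10, 11, 15, 13, 17, 12, 18, 14, 16, 19, 20, 22, 21, 23],
  [0, 1, 6, 0, 4, 9, 2, 11, 12, 5, 14, 7, 8, 16, 10, 15, 13, 17, 18, 19, 20, 21, 23, 22]]

/-- parents -/
def PF : List (ℕ × Fin 4) := [(0, 0), (1, 0), (2, 0), (3, 0), (1, 0), (1, 2), (3, 2), (5, 0), (2, 1), (5, 3), (7, 1),
  (9, 0), (6, 1), (8, 0), (11, 1), (12, 2), (12, 0), (14, 2), (15, 0), (17, 1), (19, 0), (18, 1), (21, 2), (22, 3)]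

/-- all roots -/
def RT : List (Fin 4 → ℤ) := LF ++ LF.map fun x => -x

theorem posRoots : PosRoots A4 LF.toFinset where
  simple_mem := by
    have h : ∀ i, Pi.single i 1 ∈ LF := by decide +kernel
    exact fun i => List.mem_toFinset.2 (h i)
  pos := by
    have h : ∀ v ∈ LF, ∀ i, 0 ≤ v i := by decide +kernel
    exact fun v hv => h v (List.mem_toFinset.1 hv)
  ne := by
    have h : (0 : Fin 4 → ℤ) ∉ LF := by decide +kernel
    exact fun h0 => h (List.mem_toFinset.1 h0)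
  perm := perm_of_table LF TF (by decide +kernel)

variable {W : Type*} [Group W] {cs : CoxeterSystem CoxeterMatrix.F₄ W} {h : IsCartan CoxeterMatrix.F₄ A4}

theorem mem_or {x : Fin 4 → ℤ} (hx : IsRoot cs h x) : x ∈ LF ∨ -x ∈ LF := by
  obtain ⟨w, i, rfl⟩ := hx
  have := posRoots.rep_mem h cs w _ (posRoots.simple_mem i)
  rwa [List.mem_toFinset, List.mem_toFinset] at this

theorem mem_RT {x : Fin 4 → ℤ} (hx : IsRoot cs h x) : x ∈ RT := by
  rw [RT, List.mem_append, List.mem_map]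
  rcases mem_or hx with h1 | h1
  · exact Or.inl h1
  · exact Or.inr ⟨-x, h1, neg_neg x⟩

theorem mem_LF {x : Fin 4 → ℤ} (hx : IsRoot cs h x) (h0 : 0 ≤ x) : x ∈ LF := by
  rcases mem_or hx with h1 | h1
  · exact h1
  · exfalso
    have h2 := posRoots.pos _ (List.mem_toFinset.2 h1)
    have h3 : x = 0 := le_antisymm (neg_nonneg.1 h2) h0
    rw [h3, neg_zero] at h1
    exact posRoots.ne (List.mem_toFinset.2 h1)

theorem root_refl (i : Fin 4) {x : Fin 4 → ℤ} (hx : IsRoot cs h x) : IsRoot cs h (refl A4 i x) := by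
  have := hx.act (cs.simple i)
  rwa [rep_simple] at this

theorem root_LF {x : Fin 4 → ℤ} (hx : x ∈ LF) : IsRoot cs h x := by
  have hp : ∀ j : Fin 24, (∃ i, LF.getD j 0 = sr i) ∨
      ((PF.getD j (0, 0)).1 < j ∧ LF.getD j 0 = refl A4 (PF.getD j (0, 0)).2 (LF.getD (PF.getD j (0, 0)).1 0)) := by
    decide +kernel
  have key : ∀ j : ℕ, j < 24 → IsRoot cs h (LF.getD j 0) := by
    intro j
    induction j using Nat.strong_induction_on with
    | _ j ih =>
      intro hj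
      rcases hp ⟨j, hj⟩ with ⟨i, hi⟩ | ⟨h1, h2⟩
      · change LF.getD j 0 = _ at hi
        rw [hi]
        exact isRoot_sr cs h i
      · change LF.getD j 0 = _ at h2
        rw [h2]
        exact root_refl _ (ih _ h1 (lt_trans h1 hj))
  obtain ⟨j, hj, rfl⟩ := List.getElem_of_mem hx
  have h24 : LF.length = 24 := rfl
  have e : LF.getD j 0 = LF[j] := by rw [List.getD_eq_getElem?_getD, List.getElem?_eq_getElem hj]; rfl
  rw [← e]
  exact key j (by rw [← h24]; exact hj)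

/-- `2 × 2` minors -/
def dd (u v : Fin 4 → ℤ) (k l : Fin 4) : ℤ := u k * v l - u l * v k

/-- a necessary condition for `z` to lie between `x` and `y` -/
def bt (x y z : Fin 4 → ℤ) : Bool :=
  decide (∀ k l : Fin 4, (dd z y k l).sign = (dd x y k l).sign ∧ (dd x z k l).sign = (dd x y k l).sign)

theorem bt_of {x y z : Fin 4 → ℤ} (hz : Btwn cs h x y z) : bt x y z = true := by
  obtain ⟨-, m, a, b, hm, ha, hb, he⟩ := hz
  have hk : ∀ k, m * z k = a * x k + b * y k := by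
    intro k
    have := congrFun he k
    simpa using this
  rw [bt, decide_eq_true_iff]
  intro k l
  have h1 : m * dd z y k l = a * dd x y k l := by
    unfold dd
    have e1 := hk k
    have e2 := hk l
    calc m * (z k * y l - z l * y k) = (m * z k) * y l - (m * z l) * y k := by ring
      _ = _ := by rw [e1, e2]; ring
  have h2 : m * dd x z k l = b * dd x y k l := by
    unfold dd
    have e1 := hk k
    have e2 := hk l
    calc m * (x k * z l - x l * z k) = x k * (m * z l) - x l * (m * z k) := by ring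
      _ = _ := by rw [e1, e2]; ring
  have h3 : ∀ {c u v : ℤ}, 0 < c → m * u = c * v → u.sign = v.sign := by
    intro c u v hc huv
    have h4 := congrArg Int.sign huv
    rwa [Int.sign_mul, Int.sign_mul, Int.sign_eq_one_of_pos hm, Int.sign_eq_one_of_pos hc, one_mul, one_mul] at h4
  exact ⟨h3 ha h1, h3 hb h2⟩

/-- `[X x, X y]` lies in the group of `L` -/
def ok (L : List (Fin 4 → ℤ)) (x y : Fin 4 → ℤ) : Bool :=
  decide (x ≠ -y ∧ (x + y ∉ RT ∨ (x ≠ y ∧ ∀ z ∈ RT, bt x y z = true → z ∈ L)))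

end Cfsg.Agent.H874.SNX

private theorem dce_d2e4919ceff0 : _root_.True := by
  try have : _root_.True := by simp only [_root_.Cfsg.Agent.H874.SNX.RT.eq_1]
  try have : _root_.True := by simp only [_root_.Cfsg.Agent.H874.SNX.bt.eq_1]
  exact _root_.True.intro
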